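import Cfsg.Agent.TIThree.Cube.Main

/-!
# The permutation model on nine points and the recognition
-/

set_option autoImplicit false

namespace CfsgLib.TIThree.Cube

universe u

/-- The point `3 i + v`. -/
def point (v : Fin 3 × Fin 3) : Fin 9 := ⟨3 * (v.1 : ℕ) + (v.2 : ℕ), by omega⟩

/-- The coordinates of a point. -/
def unpoint (x : Fin 9) : Fin 3 × Fin 3 :=
  (⟨(x : ℕ) / 3, by omega⟩, ⟨(x : ℕ) % 3, by omega⟩)

theorem point_unpoint : ∀ x, point (unpoint x) = x := by decide +kernel

theorem unpoint_point : ∀ v, unpoint (point v) = v := by decide +kernel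

/-- The action on nine points. -/
def act9 (g : Mo) (x : Fin 9) : Fin 9 :=
  point ((unpoint x).1, Mo.act3 (unpoint x).1 g (unpoint x).2)

theorem act9_mul (g h : Mo) (x : Fin 9) : act9 (g * h) x = act9 g (act9 h x) := by
  simp [act9, unpoint_point, Mo.act3_mul]

theorem act9_one (x : Fin 9) : act9 1 x = x := by
  simp [act9, Mo.act3_one, point_unpoint]

/-- The permutation representation. -/
def toPerm : Mo →* Equiv.Perm (Fin 9) where
  toFun g :=
    { toFun := act9 g
      invFun := act9 g⁻¹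
      left_inv := fun x => by rw [← act9_mul, inv_mul_cancel, act9_one]
      right_inv := fun x => by rw [← act9_mul, mul_inv_cancel, act9_one] }
  map_one' := Equiv.ext act9_one
  map_mul' g h := Equiv.ext (act9_mul g h)

theorem toPerm_ker : ∀ g : Mo, (∀ x, act9 g x = x) → g = 1 := by decide +kernel

theorem toPerm_injective : Function.Injective toPerm := by
  rw [injective_iff_map_eq_one]
  exact fun g hg => toPerm_ker g fun x => by
    show toPerm g x = x
    rw [hg]
    rfl

/-- The five generators of the permutation group. -/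
def gen : Fin 5 → Mo :=
  ![⟨1, 0, 0, false, false⟩, ⟨0, 1, 0, false, false⟩, ⟨0, 0, 1, false, false⟩,
    ⟨1, 1, 0, true, true⟩, ⟨1, 0, 1, true, false⟩]

theorem gen_span : ∀ k : Mo, ∃ a b c : Fin 3, ∃ p q : Fin 2,
    k = gen 0 ^ (a : ℕ) * gen 1 ^ (b : ℕ) * gen 2 ^ (c : ℕ) *
      gen 3 ^ (p : ℕ) * gen 4 ^ (q : ℕ) := by decide +kernel

/-- The generating permutations. -/
def perms : Fin 5 → Equiv.Perm (Fin 9) :=
  ![Equiv.swap (0 : Fin 9) 1 * Equiv.swap 1 2, Equiv.swap (3 : Fin 9) 4 * Equiv.swap 4 5,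
    Equiv.swap (6 : Fin 9) 7 * Equiv.swap 7 8,
    Equiv.swap (0 : Fin 9) 1 * Equiv.swap 3 4, Equiv.swap (0 : Fin 9) 1 * Equiv.swap 6 7]

theorem act9_gen : ∀ i x, act9 (gen i) x = perms i x := by decide +kernel

theorem toPerm_gen (i : Fin 5) : toPerm (gen i) = perms i := Equiv.ext (act9_gen i)

theorem range_toPerm : toPerm.range =
    Subgroup.closure ({Equiv.swap (0 : Fin 9) 1 * Equiv.swap 1 2,
      Equiv.swap (3 : Fin 9) 4 * Equiv.swap 4 5, Equiv.swap (6 : Fin 9) 7 * Equiv.swap 7 8,
      Equiv.swap (0 : Fin 9) 1 * Equiv.swap 3 4,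
      Equiv.swap (0 : Fin 9) 1 * Equiv.swap 6 7} : Set (Equiv.Perm (Fin 9))) := by
  apply le_antisymm
  · rintro _ ⟨k, rfl⟩
    obtain ⟨a, b, c, p, q, rfl⟩ := gen_span k
    simp only [map_mul, map_pow, toPerm_gen]
    refine mul_mem (mul_mem (mul_mem (mul_mem ?_ ?_) ?_) ?_) ?_ <;>
      exact pow_mem (Subgroup.subset_closure (by simp [perms])) _
  · rw [Subgroup.closure_le]
    intro x hx
    simp only [Set.mem_insert_iff, Set.mem_singleton_iff] at hx
    rcases hx with rfl | rfl | rfl | rfl | rfl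
    exacts [⟨gen 0, toPerm_gen 0⟩, ⟨gen 1, toPerm_gen 1⟩, ⟨gen 2, toPerm_gen 2⟩,
      ⟨gen 3, toPerm_gen 3⟩, ⟨gen 4, toPerm_gen 4⟩]

/-- The recognition in terms of an embedding. -/
theorem eq_top {G : Type u} [Group G] [Finite G] (φ : Mo →* G) (hinj : Function.Injective φ)
    (T : Subgroup G) (hTH : T ≤ φ.range) (hT : Nat.card T = 27)
    (hN : Subgroup.normalizer (T : Set G) = φ.range)
    (hC : ∀ t ∈ T, t ≠ 1 → Subgroup.centralizer ({t} : Set G) ≤ φ.range) : φ.range = ⊤ := by
  classical
  haveI : Fact (Nat.Prime 3) := ⟨Nat.prime_three⟩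
  let A : Subgroup Mo :=
    { carrier := {x | x ^ 3 = 1}
      one_mem' := one_pow 3
      mul_mem' := fun {a b} ha hb => by
        show (a * b) ^ 3 = 1
        rw [Commute.mul_pow (Mo.comm_cube a b ha hb) 3, ha, hb, one_mul]
      inv_mem' := fun {a} ha => by
        show a⁻¹ ^ 3 = 1
        rw [inv_pow, ha, inv_one] }
  have hA : Nat.card A = 27 := by
    rw [← Mo.card_cube, ← Fintype.card_subtype, ← Nat.card_eq_fintype_card]
    rfl
  have hTA : T = A.map φ := by
    refine Subgroup.eq_of_le_of_card_ge (fun t ht => ?_) ?_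
    · obtain ⟨k, rfl⟩ := hTH ht
      refine ⟨k, ?_, rfl⟩
      have h27 : k ^ 27 = 1 := hinj (by
        have h : (⟨φ k, ht⟩ : T) ^ Nat.card T = 1 := pow_card_eq_one'
        rw [hT] at h
        rw [map_pow, map_one]
        exact congrArg Subtype.val h)
      have := pow_gcd_eq_one.mpr ⟨h27, show k ^ 12 = 1 by rw [← Mo.pow_twelve k, ← pow_mul]⟩
      exact this
    · rw [Subgroup.card_map_of_injective hinj, hA, hT]
  have hmem : ∀ {t : G}, t ∈ T ↔ ∃ x : Mo, x ^ 3 = 1 ∧ φ x = t := by
    intro t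
    rw [hTA]
    exact Iff.rfl
  have hnd : ¬ 3 ^ 4 ∣ Nat.card G := by
    intro hdvd
    have h3 : 3 ∣ Nat.card (Subgroup.normalizer (T : Set G) ⧸
        T.subgroupOf (Subgroup.normalizer (T : Set G))) :=
      Sylow.prime_dvd_card_quotient_normalizer (n := 3) hdvd (by rw [hT]; norm_num)
    have hcN : Nat.card (Subgroup.normalizer (T : Set G)) = 108 := by
      rw [hN, ← Nat.card_congr (MonoidHom.ofInjective hinj).toEquiv, Nat.card_eq_fintype_card]
      rfl
    have hmul := Subgroup.card_eq_card_quotient_mul_card_subgroup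
      (T.subgroupOf (Subgroup.normalizer (T : Set G)))
    rw [hcN, Nat.card_congr (Subgroup.subgroupOfEquivOfLe Subgroup.le_normalizer).toEquiv, hT] at hmul
    have : Nat.card (Subgroup.normalizer (T : Set G) ⧸
        T.subgroupOf (Subgroup.normalizer (T : Set G))) = 4 := by omega
    rw [this] at h3
    norm_num at h3
  have hfac : (Nat.card G).factorization 3 = 3 := by
    have h1 : 3 ^ 3 ∣ Nat.card G := by
      have := Subgroup.card_subgroup_dvd_card T
      rwa [hT] at this
    have hne : Nat.card G ≠ 0 := Nat.card_pos.ne'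
    have a := (Nat.Prime.pow_dvd_iff_le_factorization Nat.prime_three hne).mp h1
    have b : ¬ 4 ≤ (Nat.card G).factorization 3 := fun h =>
      hnd ((Nat.Prime.pow_dvd_iff_le_factorization Nat.prime_three hne).mpr h)
    omega
  have hsyl : ∀ P : Subgroup G, IsPGroup 3 P → ∃ g : G, ∀ a ∈ P, g * a * g⁻¹ ∈ T := by
    intro P hP
    let TS : Sylow 3 G := Sylow.ofCard T (by rw [hT, hfac]; norm_num)
    obtain ⟨Q, hQ⟩ := hP.exists_le_sylow
    obtain ⟨g, hg⟩ := MulAction.exists_smul_eq G Q TS
    refine ⟨g, fun a ha => ?_⟩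
    have : g * a * g⁻¹ ∈ (g • Q : Sylow 3 G).toSubgroup :=
      Subgroup.smul_mem_pointwise_smul a (MulAut.conj g) _ (hQ ha)
    rw [hg] at this
    exact this
  let S : Setting Mo G :=
    { φ := φ
      inj := hinj
      comm3 := Mo.comm_cube
      pow4 := Mo.pow_twelve
      cent := fun x hx hx1 g hg => hC (φ x) (hmem.mpr ⟨x, hx, rfl⟩)
        (fun e => hx1 (hinj (by rw [e, map_one])))
        (Subgroup.mem_centralizer_singleton_iff.mpr hg)
      norm := fun g hg => by
        rw [← hN]
        refine (Subgroup.mem_normalizer_iff (H := T)).mpr fun t => ?_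
        have hle : T.map (MulAut.conj g).toMonoidHom ≤ T := by
          rintro _ ⟨s, hs, rfl⟩
          obtain ⟨x, hx, rfl⟩ := hmem.mp hs
          obtain ⟨y, hy, e⟩ := hg x hx
          exact hmem.mpr ⟨y, hy, e.symm⟩
        have heq : T.map (MulAut.conj g).toMonoidHom = T :=
          Subgroup.eq_of_le_of_card_ge hle
            (by rw [Subgroup.card_map_of_injective (MulAut.conj g).injective])
        constructor
        · intro ht
          exact hle ⟨t, ht, rfl⟩
        · intro ht
          rw [← heq] at ht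
          obtain ⟨s, hs, e⟩ := ht
          have : s = t := by simpa using e
          exact this ▸ hs
      sylow := fun P hP => by
        obtain ⟨g, hg⟩ := hsyl P hP
        exact ⟨g, fun a ha => hmem.mp (hg a ha)⟩ }
  exact range_eq_top S

end CfsgLib.TIThree.Cube
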