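import Mathlib

/-!
# The equations attached to the constituents for `3^3 : 2^2`

A vector `a : Fin 15 → ℂ` stands for the signed values of the constituents at a regular element,
`y` for their signed degrees.
-/

set_option autoImplicit false

namespace CfsgLib.TIThree.Cube

/-- The linear relations. -/
def Rel (a : Fin 15 → ℂ) : Prop :=
  a 0 = 1 ∧ a 12 = 1 + a 8 + a 10 + a 11 ∧ a 1 = -a 12 ∧ a 2 = -a 12 ∧
    a 3 = -(1 + a 11) ∧ a 4 = -(a 8 + a 10) ∧ a 5 = -(1 + a 10) ∧ a 6 = -(a 8 + a 11) ∧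
    a 7 = -(1 + a 8) ∧ a 9 = -(a 10 + a 11)

/-- The position of the `i`th linear constituent. -/
def lam : Fin 3 → Fin 15 := ![11, 10, 8]

variable (a b y : Fin 15 → ℂ)

/-- The term of one constituent. -/
noncomputable def term (i : Fin 15) : ℂ := a i * b i / y i

/-- The excess of the four linear constituents. -/
noncomputable def exA : ℂ :=
  term a b y 0 + term a b y 8 + term a b y 10 + term a b y 11 - term a b y 12

/-- The excess of the `k`th split pair. -/
noncomputable def exP : Fin 3 → ℂ :=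
  ![-(term a b y 3 + term a b y 4) - term a b y 12, -(term a b y 5 + term a b y 6) - term a b y 12,
    -(term a b y 7 + term a b y 9) - term a b y 12]

/-- The excess of the last two constituents. -/
noncomputable def exR : ℂ := term a b y 13 + term a b y 14 + 2 * term a b y 12

/-- A localised count. -/
noncomputable def wsum (v : Fin 15 → ℤ) : ℂ := ∑ i, (v i : ℂ) * term a b y i

/-- Values at the translations with one nonzero coordinate. -/
def vOne : Fin 3 → Fin 15 → ℤ :=
  ![![1, -4, 2, 1, 1, -2, -2, -2, 1, -2, 1, 1, -2, 2, 2],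
    ![1, 2, -4, -2, -2, 1, 1, -2, 1, -2, 1, 1, -2, 2, 2],
    ![1, 2, 2, -2, -2, -2, -2, 1, 1, 1, 1, 1, 4, 2, 2]]

/-- Values at the translations with two nonzero coordinates. -/
def vTwo : Fin 3 → Fin 15 → ℤ :=
  ![![1, -1, 2, -2, -2, 1, 1, 1, 1, 1, 1, 1, -2, -1, -1],
    ![1, 2, -1, 1, 1, -2, -2, 1, 1, 1, 1, 1, -2, -1, -1],
    ![1, 2, 2, 1, 1, 1, 1, -2, 1, -2, 1, 1, 1, -1, -1]]

/-- Values at the elements of order six. -/
def vSix : Fin 3 → Fin 15 → ℤ :=
  ![![1, 0, 0, 1, -1, 0, 0, 0, -1, 0, -1, 1, 0, 0, 0],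
    ![1, 0, 0, 0, 0, 1, -1, 0, -1, 0, 1, -1, 0, 0, 0],
    ![1, 0, 0, 0, 0, 0, 0, 1, 1, -1, -1, -1, 0, 0, 0]]

/-- Values at a full translation and its inverse together. -/
def vAll : Fin 15 → ℤ := ![2, -2, -2, 2, 2, 2, 2, 2, 2, 2, 2, 2, 2, 1, 1]

variable {a b y}

theorem term_one (ha : Rel a) (hb : Rel b) (hy : Rel y) :
    term a b y 1 = -term a b y 12 ∧ term a b y 2 = -term a b y 12 := by
  unfold term
  rw [ha.2.2.1, hb.2.2.1, hy.2.2.1, ha.2.2.2.1, hb.2.2.2.1, hy.2.2.2.1, neg_mul_neg, div_neg]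
  exact ⟨rfl, rfl⟩

theorem sum_fifteen (f : Fin 15 → ℂ) : ∑ i, f i = f 0 + f 1 + f 2 + f 3 + f 4 + f 5 + f 6 + f 7 +
    f 8 + f 9 + f 10 + f 11 + f 12 + f 13 + f 14 := by
  simp [Fin.sum_univ_succ, add_assoc]

theorem wsum_one (ha : Rel a) (hb : Rel b) (hy : Rel y) (i j k : Fin 3) (hij : i ≠ j)
    (hik : i ≠ k) (hjk : j ≠ k) :
    wsum a b y (vOne i) = exA a b y - exP a b y i + 2 * exP a b y j + 2 * exP a b y k +
      2 * exR a b y := by
  obtain ⟨h1, h2⟩ := term_one ha hb hy
  fin_cases i <;> fin_cases j <;> fin_cases k <;> first | exact absurd rfl ‹_› |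
    (simp [wsum, sum_fifteen, vOne, exA, exP, exR, h1, h2]; ring)

theorem wsum_two (ha : Rel a) (hb : Rel b) (hy : Rel y) (i j k : Fin 3) (hij : i ≠ j)
    (hik : i ≠ k) (hjk : j ≠ k) :
    wsum a b y (vTwo i) = exA a b y + 2 * exP a b y i - exP a b y j - exP a b y k -
      exR a b y := by
  obtain ⟨h1, h2⟩ := term_one ha hb hy
  fin_cases i <;> fin_cases j <;> fin_cases k <;> first | exact absurd rfl ‹_› |
    (simp [wsum, sum_fifteen, vTwo, exA, exP, exR, h1, h2]; ring)

theorem wsum_all (ha : Rel a) (hb : Rel b) (hy : Rel y) :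
    wsum a b y vAll = 2 * exA a b y - 2 * exP a b y 0 - 2 * exP a b y 1 - 2 * exP a b y 2 +
      exR a b y := by
  obtain ⟨h1, h2⟩ := term_one ha hb hy
  simp [wsum, sum_fifteen, vAll, exA, exP, exR, h1, h2]; ring

/-- Two elements of different classes. -/
theorem exA_eq_zero (ha : Rel a) (hb : Rel b) (hy : Rel y) (h1 : ∀ i, wsum a b y (vOne i) = 0)
    (h2 : ∀ i, wsum a b y (vTwo i) = 0) (h3 : wsum a b y vAll = 0) : exA a b y = 0 := by
  have a0 := (wsum_one ha hb hy 0 1 2 (by decide) (by decide) (by decide)).symm.trans (h1 0)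
  have a1 := (wsum_one ha hb hy 1 0 2 (by decide) (by decide) (by decide)).symm.trans (h1 1)
  have a2 := (wsum_one ha hb hy 2 0 1 (by decide) (by decide) (by decide)).symm.trans (h1 2)
  have b0 := (wsum_two ha hb hy 0 1 2 (by decide) (by decide) (by decide)).symm.trans (h2 0)
  have b1 := (wsum_two ha hb hy 1 0 2 (by decide) (by decide) (by decide)).symm.trans (h2 1)
  have b2 := (wsum_two ha hb hy 2 0 1 (by decide) (by decide) (by decide)).symm.trans (h2 2)
  have c := (wsum_all ha hb hy).symm.trans h3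
  linear_combination (2 / 27 : ℂ) * (a0 + a1 + a2) + (5 / 27 : ℂ) * (b0 + b1 + b2) +
    (1 / 9 : ℂ) * c

/-- Two elements of the `k`th class. -/
theorem exP_eq_zero (ha : Rel a) (hb : Rel b) (hy : Rel y) (k i j : Fin 3) (hki : k ≠ i)
    (hkj : k ≠ j) (hij : i ≠ j) (h1 : wsum a b y (vOne k) = 0)
    (hi : wsum a b y (vTwo i) = 0) (hj : wsum a b y (vTwo j) = 0) (h3 : wsum a b y vAll = 0) :
    exP a b y i = 0 := by
  have a0 := (wsum_one ha hb hy k i j hki hkj hij).symm.trans h1
  have b1 := (wsum_two ha hb hy i k j hki.symm hij hkj).symm.trans hi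
  have b2 := (wsum_two ha hb hy j k i hkj.symm hij.symm hki).symm.trans hj
  have c := (wsum_all ha hb hy).symm.trans h3
  have e : exP a b y 0 + exP a b y 1 + exP a b y 2 = exP a b y k + exP a b y i + exP a b y j := by
    fin_cases k <;> fin_cases i <;> fin_cases j <;> first | exact absurd rfl ‹_› | (simp; try ring)
  linear_combination (1 / 9 : ℂ) * a0 + (2 / 9 : ℂ) * b1 - (1 / 9 : ℂ) * b2 - (1 / 9 : ℂ) * c -
    (2 / 9 : ℂ) * e

theorem split_sq {A A' X X' : ℂ} (hX : X ≠ 0) (hX' : X' ≠ 0) (hs : X + X' ≠ 0)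
    (h : A * A / X + A' * A' / X' = (A + A') * (A + A') / (X + X')) :
    A * (X + X') = (A + A') * X := by
  field_simp at h
  have : (A * X' - A' * X) * (A * X' - A' * X) = 0 := by linear_combination h
  linear_combination mul_self_eq_zero.mp this

/-- A vanishing split pair determines one linear constituent. -/
theorem lam_of_exP (ha : Rel a) (hy : Rel y) (hy0 : ∀ i, y i ≠ 0) (i : Fin 3)
    (h : exP a a y i = 0) : (1 + a (lam i)) * y 12 = (1 + y (lam i)) * a 12 := by
  obtain ⟨-, a12, -, -, a3, a4, a5, a6, a7, a9⟩ := ha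
  obtain ⟨-, y12, -, -, y3, y4, y5, y6, y7, y9⟩ := hy
  have key : ∀ {A A' X X' : ℂ} {P Q : Fin 15}, a P = -A → a Q = -A' → y P = -X → y Q = -X' →
      A + A' = a 12 → X + X' = y 12 → -(term a a y P + term a a y Q) - term a a y 12 = 0 →
      A * y 12 = X * a 12 := by
    intro A A' X X' P Q eA eA' eX eX' sA sX h
    have hX : X ≠ 0 := fun e => hy0 P (by rw [eX, e, neg_zero])
    have hX' : X' ≠ 0 := fun e => hy0 Q (by rw [eX', e, neg_zero])
    have hs : X + X' ≠ 0 := by rw [sX]; exact hy0 12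
    simp only [term, eA, eA', eX, eX', neg_mul_neg, div_neg] at h
    rw [← sA, ← sX] at h
    have := split_sq (A := A) (A' := A') hX hX' hs (by linear_combination h)
    rw [sA, sX] at this
    linear_combination this
  fin_cases i
  · show (1 + a 11) * y 12 = (1 + y 11) * a 12
    exact key a3 a4 y3 y4 (by rw [a12]; ring) (by rw [y12]; ring) (by simpa [exP] using h)
  · show (1 + a 10) * y 12 = (1 + y 10) * a 12
    exact key a5 a6 y5 y6 (by rw [a12]; ring) (by rw [y12]; ring) (by simpa [exP] using h)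
  · show (1 + a 8) * y 12 = (1 + y 8) * a 12
    exact key a7 a9 y7 y9 (by rw [a12]; ring) (by rw [y12]; ring) (by simpa [exP] using h)

/-- The shape of the vector of the `k`th class. -/
theorem shape (ha : Rel a) (hy : Rel y) (hy0 : ∀ i, y i ≠ 0) (k i j : Fin 3) (hki : k ≠ i)
    (hkj : k ≠ j) (hij : i ≠ j) (hi : exP a a y i = 0) (hj : exP a a y j = 0) :
    ∃ c : ℂ, a (lam k) = (1 - c) * y (lam k) + c ∧ a (lam i) = (1 - c) * y (lam i) - c ∧
      a (lam j) = (1 - c) * y (lam j) - c ∧ a 12 = (1 - c) * y 12 := by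
  have ei := lam_of_exP ha hy hy0 i hi
  have ej := lam_of_exP ha hy hy0 j hj
  set q := a 12 / y 12 with hq
  have hS : a 12 = q * y 12 := (div_mul_cancel₀ _ (hy0 12)).symm
  rw [hS] at ei ej
  have li : a (lam i) = q * (1 + y (lam i)) - 1 := by
    have := mul_right_cancel₀ (hy0 12) (show (1 + a (lam i)) * y 12 =
      (q * (1 + y (lam i))) * y 12 by linear_combination ei)
    linear_combination this
  have lj : a (lam j) = q * (1 + y (lam j)) - 1 := by
    have := mul_right_cancel₀ (hy0 12) (show (1 + a (lam j)) * y 12 =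
      (q * (1 + y (lam j))) * y 12 by linear_combination ej)
    linear_combination this
  have esum : ∀ w : Fin 15 → ℂ, Rel w → w 12 = 1 + w (lam k) + w (lam i) + w (lam j) := by
    intro w hw
    rw [hw.2.1]
    fin_cases k <;> fin_cases i <;> fin_cases j <;> first | exact absurd rfl ‹_› |
      (simp [lam]; try ring)
  refine ⟨1 - q, ?_, by linear_combination li, by linear_combination lj, by linear_combination hS⟩
  linear_combination (-1 : ℂ) * esum a ha + q * esum y hy + hS - li - lj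

/-- The relation between the signed degrees from two classes. -/
theorem degree_relation (ha : Rel a) (hb : Rel b) (hy : Rel y) (hy0 : ∀ i, y i ≠ 0)
    (k m n : Fin 3) (hkm : k ≠ m) (hkn : k ≠ n) (hmn : m ≠ n) {c c' : ℂ} (hc : c ≠ 0)
    (hc' : c' ≠ 0)
    (ak : a (lam k) = (1 - c) * y (lam k) + c) (am : a (lam m) = (1 - c) * y (lam m) - c)
    (an : a (lam n) = (1 - c) * y (lam n) - c) (a12 : a 12 = (1 - c) * y 12)
    (bk : b (lam k) = (1 - c') * y (lam k) - c') (bm : b (lam m) = (1 - c') * y (lam m) + c')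
    (bn : b (lam n) = (1 - c') * y (lam n) - c') (b12 : b 12 = (1 - c') * y 12)
    (h : exA a b y = 0) :
    1 + (y (lam n))⁻¹ = (y (lam k))⁻¹ + (y (lam m))⁻¹ := by
  have e : exA a b y = term a b y 0 + term a b y (lam k) + term a b y (lam m) +
      term a b y (lam n) - term a b y 12 := by
    fin_cases k <;> fin_cases m <;> fin_cases n <;> first | exact absurd rfl ‹_› |
      (simp [exA, lam]; try ring)
  have esum : y 12 = 1 + y (lam k) + y (lam m) + y (lam n) := by
    rw [hy.2.1]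
    fin_cases k <;> fin_cases m <;> fin_cases n <;> first | exact absurd rfl ‹_› |
      (simp [lam]; try ring)
  have hk0 := hy0 (lam k)
  have hm0 := hy0 (lam m)
  have hn0 := hy0 (lam n)
  have h12 := hy0 12
  have key : exA a b y =
      c * c' * (1 + (y (lam n))⁻¹ - (y (lam k))⁻¹ - (y (lam m))⁻¹) := by
    rw [e]
    simp only [term, ha.1, hb.1, hy.1, ak, am, an, a12, bk, bm, bn, b12]
    field_simp
    rw [esum]
    ring
  rw [key] at h
  have := (mul_eq_zero.mp h).resolve_left (mul_ne_zero hc hc')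
  linear_combination this

/-- The three relations force signed degree one. -/
theorem degree_one {u v w : ℂ} (h0 : 1 + u⁻¹ = v⁻¹ + w⁻¹) (h1 : 1 + v⁻¹ = u⁻¹ + w⁻¹)
    (h2 : 1 + w⁻¹ = u⁻¹ + v⁻¹) : u = 1 ∧ v = 1 ∧ w = 1 := by
  have e : ∀ {z : ℂ}, z⁻¹ = 1 → z = 1 := fun h => inv_eq_one.mp h
  exact ⟨e (by linear_combination -(1 / 2 : ℂ) * h1 - (1 / 2 : ℂ) * h2),
    e (by linear_combination -(1 / 2 : ℂ) * h0 - (1 / 2 : ℂ) * h2),
    e (by linear_combination -(1 / 2 : ℂ) * h0 - (1 / 2 : ℂ) * h1)⟩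

end CfsgLib.TIThree.Cube
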