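import Cfsg.Agent.TIThree.Cube.Model
import Cfsg.Agent.TIThree.Columns

/-!
# The ten virtual characters of `3^3 : 2^2` and their decomposition
-/

set_option autoImplicit false
set_option maxRecDepth 10000

namespace CfsgLib.TIThree.Cube

open Cfsg CfsgLib.Chars Rows Decomp

/-- `1 + σ - ρ` at the `i`th coordinate. -/
def tht (i : Fin 3) (x : Mo) : ℤ := 1 + Mo.sgn i x - Mo.rho i x

/-- The ten vectors. -/
def vec : Fin 10 → Mo → ℤ :=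
  ![fun x => Mo.rho 0 x * Mo.rho 1 x - Mo.rho 0 x * Mo.rho 2 x,
    fun x => Mo.rho 0 x * Mo.rho 2 x - Mo.rho 1 x * Mo.rho 2 x,
    fun x => 1 + Mo.sgn 0 x + Mo.sgn 1 x + Mo.sgn 2 x - Mo.rho 0 x * Mo.rho 1 x,
    tht 0, fun x => tht 0 x * Mo.sgn 1 x,
    tht 1, fun x => tht 1 x * Mo.sgn 2 x,
    tht 2, fun x => tht 2 x * Mo.sgn 0 x,
    fun x => Mo.rho 0 x * Mo.rho 1 x + Mo.rho 1 x * Mo.rho 2 x -
      Mo.rho 0 x * Mo.rho 1 x * Mo.rho 2 x]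

theorem gen_tht (i : Fin 3) : IsIntGen Mo (tht i) :=
  (IsIntGen.one.add (Mo.gen_sgn i)).sub (Mo.gen_rho i)

theorem gen_vec : ∀ i, IsIntGen Mo (vec i) := by
  intro i
  fin_cases i
  exacts [((Mo.gen_rho 0).mul (Mo.gen_rho 1)).sub ((Mo.gen_rho 0).mul (Mo.gen_rho 2)),
    ((Mo.gen_rho 0).mul (Mo.gen_rho 2)).sub ((Mo.gen_rho 1).mul (Mo.gen_rho 2)),
    (((IsIntGen.one.add (Mo.gen_sgn 0)).add (Mo.gen_sgn 1)).add (Mo.gen_sgn 2)).sub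
      ((Mo.gen_rho 0).mul (Mo.gen_rho 1)),
    gen_tht 0, (gen_tht 0).mul (Mo.gen_sgn 1), gen_tht 1, (gen_tht 1).mul (Mo.gen_sgn 2),
    gen_tht 2, (gen_tht 2).mul (Mo.gen_sgn 0),
    (((Mo.gen_rho 0).mul (Mo.gen_rho 1)).add ((Mo.gen_rho 1).mul (Mo.gen_rho 2))).sub
      (((Mo.gen_rho 0).mul (Mo.gen_rho 1)).mul (Mo.gen_rho 2))]

theorem vec_sing : ∀ i, ∀ k : Mo, k ^ 4 = 1 → vec i k = 0 := by decide +kernel

theorem vec_cls (i : Fin 10) (k h : Mo) : vec i (h * k * h⁻¹) = vec i k := by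
  have hc : (vec i (h * k * h⁻¹) : ℂ) = (vec i k : ℂ) :=
    CfsgLib.Chars.Brauer.isClassFunction_of_gen (gen_vec i) k h
  exact_mod_cast hc

/-- The vectors as a list. -/
def vecs : List (Mo → ℤ) :=
  [vec 0, vec 1, vec 2, vec 3, vec 4, vec 5, vec 6, vec 7, vec 8, vec 9]

theorem mem_vecs {v : Mo → ℤ} (h : v ∈ vecs) : ∃ i, v = vec i := by
  simp only [vecs, List.mem_cons, List.not_mem_nil, or_false] at h
  rcases h with rfl | rfl | rfl | rfl | rfl | rfl | rfl | rfl | rfl | rfl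
  exacts [⟨0, rfl⟩, ⟨1, rfl⟩, ⟨2, rfl⟩, ⟨3, rfl⟩, ⟨4, rfl⟩, ⟨5, rfl⟩, ⟨6, rfl⟩, ⟨7, rfl⟩, ⟨8, rfl⟩,
    ⟨9, rfl⟩]

/-- Their invariants. -/
def specs : List Spec :=
  [⟨0, 2, []⟩, ⟨0, 2, [-1]⟩, ⟨1, 5, [-1, 0]⟩, ⟨1, 3, [0, 0, 2]⟩, ⟨0, 3, [0, 0, 2, 0]⟩,
    ⟨1, 3, [0, 0, 2, 1, 1]⟩, ⟨0, 3, [0, 0, 2, 1, 1, 0]⟩, ⟨1, 3, [0, 0, 2, 1, 1, 1, 1]⟩,
    ⟨0, 3, [0, 0, 2, 1, 1, 1, 1, 0]⟩, ⟨0, 4, [1, -1, -1, 0, 0, 0, 0, 0, 0]⟩]

/-- The family. -/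
def fam : Fam Mo where
  vs := vecs
  specs := specs
  gen := fun v hv => by
    obtain ⟨i, rfl⟩ := mem_vecs hv
    exact gen_vec i
  sing := fun v hv => by
    obtain ⟨i, rfl⟩ := mem_vecs hv
    exact vec_sing i
  cls := fun v hv => by
    obtain ⟨i, rfl⟩ := mem_vecs hv
    exact vec_cls i
  ok := by decide +kernel

/-- The only state. -/
def state : List (List ℤ) :=
  [[0, 0, 1, 1, 0, 1, 0, 1, 0, 0],
    [0, 1, 0, 0, 0, 0, 0, 0, 0, -1],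
    [1, -1, 0, 0, 0, 0, 0, 0, 0, 0],
    [0, 0, 0, 1, 0, 0, 0, 0, 0, 0],
    [0, 0, 0, 0, 1, 0, 0, 0, 0, 0],
    [0, 0, 0, 0, 0, 1, 0, 0, 0, 0],
    [0, 0, 0, 0, 0, 0, 1, 0, 0, 0],
    [0, 0, 0, 0, 0, 0, 0, 1, 0, 0],
    [0, 0, 1, 0, 1, 0, 1, 1, 0, 0],
    [0, 0, 0, 0, 0, 0, 0, 0, 1, 0],
    [0, 0, 1, 0, 1, 1, 0, 0, 1, 0],
    [0, 0, 1, 1, 0, 0, 1, 0, 1, 0],
    [1, 0, -1, 0, 0, 0, 0, 0, 0, 1],
    [0, 0, 0, 0, 0, 0, 0, 0, 0, 1],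
    [0, 0, 0, 0, 0, 0, 0, 0, 0, 1]]

theorem enum_eq : enum specs = [state] := by decide +kernel

/-- Translations with one or two nonzero coordinates, indexed. -/
def tOne : Fin 3 → Mo :=
  ![⟨1, 0, 0, false, false⟩, ⟨0, 1, 0, false, false⟩, ⟨0, 0, 1, false, false⟩]

/-- The translation with zero at exactly the `i`th coordinate. -/
def tTwo : Fin 3 → Mo :=
  ![⟨0, 1, 1, false, false⟩, ⟨1, 0, 1, false, false⟩, ⟨1, 1, 0, false, false⟩]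

/-- The involution centralising the `i`th coordinate. -/
def inv2 : Fin 3 → Mo :=
  ![⟨0, 0, 0, false, true⟩, ⟨0, 0, 0, true, false⟩, ⟨0, 0, 0, true, true⟩]

/-- An element of order six over `inv2 i`. -/
def six : Fin 3 → Mo :=
  ![⟨1, 0, 0, false, true⟩, ⟨0, 1, 0, true, false⟩, ⟨0, 0, 1, true, true⟩]

/-- The translation with all coordinates one. -/
def tAll : Mo := ⟨1, 1, 1, false, false⟩

/-- Valuation coefficients at `tOne`. -/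
def AOne : Fin 3 → List ℤ :=
  ![[0, -2, 4, 1, 1, -2, -2, -2, -2, 2], [0, 4, 4, -2, -2, 1, 1, -2, -2, 2],
    [6, 4, 4, -2, -2, -2, -2, 1, 1, 2]]

/-- Valuation coefficients at `tTwo`. -/
def ATwo : Fin 3 → List ℤ :=
  ![[0, -2, 1, -2, -2, 1, 1, 1, 1, -1], [0, 1, 1, 1, 1, -2, -2, 1, 1, -1],
    [3, 1, 1, 1, 1, 1, 1, -2, -2, -1]]

/-- Valuation coefficients at `six`. -/
def ASix : Fin 3 → List ℤ :=
  ![[0, 0, 0, 1, -1, 0, 0, 0, 0, 0], [0, 0, 0, 0, 0, 1, -1, 0, 0, 0],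
    [0, 0, 0, 0, 0, 0, 0, 1, -1, 0]]

/-- Valuation coefficients at `tAll` and its inverse together. -/
def AAll : List ℤ := [-3, -1, -4, 2, 2, 2, 2, 2, 2, 1]

theorem val_eqs : ∀ i : Fin 3, ∀ k : Mo,
    (dot (AOne i) (vecs.map fun v => v k) = (transCount (tOne i) k : ℤ)) ∧
    (dot (ATwo i) (vecs.map fun v => v k) = (transCount (tTwo i) k : ℤ)) ∧
    (dot (ASix i) (vecs.map fun v => v k) = (transCount (six i) k : ℤ)) := by decide +kernel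

theorem val_len : ∀ i : Fin 3,
    (AOne i).length = 10 ∧ (ATwo i).length = 10 ∧ (ASix i).length = 10 := by decide +kernel

theorem isVal_one (i : Fin 3) : IsValuation fam (tOne i) 1 (AOne i) :=
  ⟨(val_len i).1, one_ne_zero, fun k => by rw [one_mul]; exact (val_eqs i k).1⟩

theorem isVal_two (i : Fin 3) : IsValuation fam (tTwo i) 1 (ATwo i) :=
  ⟨(val_len i).2.1, one_ne_zero, fun k => by rw [one_mul]; exact (val_eqs i k).2.1⟩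

theorem isVal_six (i : Fin 3) : IsValuation fam (six i) 1 (ASix i) :=
  ⟨(val_len i).2.2, one_ne_zero, fun k => by rw [one_mul]; exact (val_eqs i k).2.2⟩

theorem val_all : ∀ k : Mo, dot AAll (vecs.map fun v => v k) =
    (transCount tAll k : ℤ) + (transCount tAll⁻¹ k : ℤ) := by decide +kernel

/-- The class of an element outside the translations, by its signs. -/
def cls (x : Mo) : Option (Fin 3) :=
  if x.p = false ∧ x.q = false then none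
  else if x.p = false then some 0 else if x.q = false then some 1 else some 2

theorem conj_inv2 : ∀ x : Mo, x ^ 2 = 1 → x ≠ 1 →
    ∃ k : Fin 3, cls x = some k ∧ ∃ h : Mo, h * inv2 k * h⁻¹ = x := by decide +kernel

/-- The involution pairs producing `z` avoid the classes `k`, `m`. -/
def NoPair (z : Mo) (k m : Fin 3) : Prop :=
  ∀ x : Mo, ¬ (x ^ 2 = 1 ∧ (x⁻¹ * z) ^ 2 = 1 ∧ cls x = some k ∧ cls (x⁻¹ * z) = some m)

instance (z : Mo) (k m : Fin 3) : Decidable (NoPair z k m) := by unfold NoPair; infer_instance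

theorem noPair_one : ∀ i k : Fin 3, ∀ m, (k ≠ m ∨ k = i) → NoPair (tOne i) k m := by decide +kernel

theorem noPair_two : ∀ i k : Fin 3, ∀ m, (k ≠ m ∨ k ≠ i) → NoPair (tTwo i) k m := by decide +kernel

theorem noPair_all : ∀ k m : Fin 3, NoPair tAll k m ∧ NoPair tAll⁻¹ k m := by decide +kernel

theorem pow4_ne : ∀ i : Fin 3, tOne i ^ 4 ≠ 1 ∧ tTwo i ^ 4 ≠ 1 ∧ tAll ^ 4 ≠ 1 ∧ tAll⁻¹ ^ 4 ≠ 1 := by
  decide +kernel

theorem inv2_basic : ∀ i : Fin 3, inv2 i ^ 2 = 1 ∧ inv2 i ≠ 1 ∧ inv2 i ^ 4 = 1 ∧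
    six i ^ 6 = 1 ∧ six i ^ 3 = inv2 i := by decide +kernel

theorem six_pow_conj : ∀ i : Fin 3,
    (∃ h : Mo, h * six i * h⁻¹ = six i ^ 5) ∧
      (∃ h : Mo, h * tOne i * h⁻¹ = six i ^ 2) ∧ (∃ h : Mo, h * tOne i * h⁻¹ = six i ^ 4) := by
  decide +kernel

end CfsgLib.TIThree.Cube
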