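import Cfsg.Agent.TIThree.Cube.Values
import Cfsg.Agent.TIThree.Linear

/-!
# A normalizer `3^3 : 2^2` of a TI Sylow 3-subgroup is the whole group
-/

set_option autoImplicit false

namespace CfsgLib.TIThree.Cube

open scoped ComplexConjugate
open Cfsg CfsgLib.Chars Rows Decomp

universe u

variable {G : Type u} [Group G] [Fintype G] {S : Setting Mo G}

/-- A congruence modulo three along a cyclic group of order dividing six. -/
theorem six_congr (g : G) (hg : g ^ 6 = 1) (χ : IrrCharacter G) :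
    ∃ m n : ℤ, (χ : G → ℂ) 1 + (χ : G → ℂ) (g ^ 2) + (χ : G → ℂ) (g ^ 4) = 3 * (m : ℂ) ∧
      (χ : G → ℂ) g + (χ : G → ℂ) (g ^ 3) + (χ : G → ℂ) (g ^ 5) = 3 * (n : ℂ) := by
  let φ : Multiplicative (ZMod 6) →* G := AddMonoidHom.toMultiplicativeLeft
    (ZMod.lift 6 ⟨(zmultiplesHom (Additive G)) (Additive.ofMul g), by
      show ((6 : ℕ) : ℤ) • Additive.ofMul g = 0
      rw [natCast_zsmul, ← ofMul_pow, hg]
      rfl⟩)
  have hφ : ∀ i : ℕ, φ (Multiplicative.ofAdd (i : ZMod 6)) = g ^ i := by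
    intro i
    show Additive.toMul (ZMod.lift 6 _ ((i : ℤ) : ZMod 6)) = g ^ i
    rw [ZMod.lift_coe]
    show Additive.toMul ((i : ℤ) • Additive.ofMul g) = g ^ i
    rw [natCast_zsmul]
    rfl
  let f : Multiplicative (ZMod 6) → Bool → Bool :=
    fun x v => xor v ((Multiplicative.toAdd x).val % 2 == 1)
  have hgen : IsIntGen (Multiplicative (ZMod 6)) (El.fixCount f) :=
    IsIntGen.fixCount f (by decide +kernel) (by decide +kernel)
  obtain ⟨m, hm⟩ := exists_coef_int φ hgen χ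
  obtain ⟨n, hn⟩ := exists_coef_int φ (IsIntGen.one (K := Multiplicative (ZMod 6))) χ
  rw [coef_eq] at hm hn
  have h6 : Nat.card (Multiplicative (ZMod 6)) = 6 := by simp
  have hv : ∀ i : Fin 6, El.fixCount f (Multiplicative.ofAdd ((i : ℕ) : ZMod 6)) =
      if (i : ℕ) % 2 = 0 then 2 else 0 := by decide +kernel
  have e : ∀ F : Multiplicative (ZMod 6) → ℂ, ∑ k, F k =
      ∑ i : Fin 6, F (Multiplicative.ofAdd ((i : ℕ) : ZMod 6)) := fun F =>
    (Fintype.sum_bijective (fun i : Fin 6 => Multiplicative.ofAdd ((i : ℕ) : ZMod 6))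
      (by decide +kernel) _ _ fun _ => rfl).symm
  simp only [e, hφ, hv, h6] at hm hn
  simp only [Fin.sum_univ_six, Fin.val_zero, Fin.val_one, Fin.val_two, Fin.isValue] at hm hn
  norm_num at hm hn
  refine ⟨m, 2 * n - m, ?_, ?_⟩
  · linear_combination (3 : ℂ) * hm
  · push_cast
    linear_combination (6 : ℂ) * hn - (3 : ℂ) * hm

/-- Congruences at the involutions. -/
theorem Cols.congr (C : Cols S state) (i : Fin 3) (j : Fin 15) :
    ∃ m n : ℤ, C.vals 1 j + 2 * (vOne i j : ℂ) = 3 * (m : ℂ) ∧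
      C.vals (S.φ (inv2 i)) j + 2 * (vSix i j : ℂ) = 3 * (n : ℂ) := by
  obtain ⟨-, -, -, h6, h3⟩ := inv2_basic i
  obtain ⟨⟨a, ha⟩, ⟨b, hb⟩, ⟨c, hc⟩⟩ := six_pow_conj i
  obtain ⟨m, n, hm, hn⟩ := six_congr (S.φ (six i)) (by rw [← map_pow, h6, map_one]) (C.q j).1
  have hcl := CfsgLib.Chars.isClassFunction_coe (C.q j).1
  have e : ∀ {x y h : Mo}, h * x * h⁻¹ = y →
      ((C.q j).1 : G → ℂ) (S.φ y) = ((C.q j).1 : G → ℂ) (S.φ x) := by
    intro x y h e
    rw [← e, map_mul, map_mul, map_inv]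
    exact hcl _ _
  rw [← map_pow, ← map_pow, e hb, e hc] at hm
  rw [← map_pow, ← map_pow, h3, e ha] at hn
  refine ⟨(C.q j).2 * m, (C.q j).2 * n, ?_, ?_⟩
  · rw [← C.val_one, Int.cast_mul]
    simp only [Cols.vals, sc]
    linear_combination ((C.q j).2 : ℂ) * hm
  · rw [← C.val_six, Int.cast_mul]
    simp only [Cols.vals, sc]
    linear_combination ((C.q j).2 : ℂ) * hn

theorem vOne_lam : ∀ i k : Fin 3, vOne i (lam k) = 1 ∧
    vSix i (lam k) = if i = k then 1 else -1 := by decide +kernel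

/-- Conjugate involutions of the normalizer lie in one class of it. -/
theorem inv2_fusion (C : Cols S state) {i k : Fin 3}
    (h : IsConj (S.φ (inv2 i)) (S.φ (inv2 k))) : i = k := by
  by_contra hne
  obtain ⟨m, n, -, hn⟩ := C.congr i (lam i)
  obtain ⟨m', n', -, hn'⟩ := C.congr k (lam i)
  obtain ⟨g, hg⟩ := isConj_iff.mp h
  have e : C.vals (S.φ (inv2 k)) (lam i) = C.vals (S.φ (inv2 i)) (lam i) := by
    rw [← hg]
    simp only [Cols.vals, sc, CfsgLib.Chars.isClassFunction_coe (C.q (lam i)).1 _ _]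
  rw [(vOne_lam i i).2, if_pos rfl] at hn
  rw [(vOne_lam k i).2, if_neg (Ne.symm hne), e] at hn'
  have : ((3 * n - 3 * n' : ℤ) : ℂ) = ((4 : ℤ) : ℂ) := by
    push_cast at hn hn' ⊢
    linear_combination hn' - hn
  have := Int.cast_inj.mp this
  omega

/-- A pattern without pairs gives a vanishing count. -/
theorem count_zero (C : Cols S state) {z : Mo} (hz : z ^ 4 ≠ 1) {k m : Fin 3}
    (h : NoPair z k m) :
    ∑ χ : IrrCharacter G, (χ : G → ℂ) (S.φ (inv2 k)) * (χ : G → ℂ) (S.φ (inv2 m)) *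
      conj ((χ : G → ℂ) (S.φ z)) / (χ : G → ℂ) 1 = 0 := by
  classical
  obtain ⟨hk2, hk1, -⟩ := inv2_basic k
  obtain ⟨hm2, hm1, -⟩ := inv2_basic m
  have hc := S.involution_count (u := S.φ (inv2 k)) (v := S.φ (inv2 m)) (z := z)
    (by rw [← map_pow, hk2, map_one]) (by rw [← map_pow, hm2, map_one]) hz
  have hcls : ∀ {x : Mo} {i : Fin 3}, inv2 i ^ 2 = 1 → inv2 i ≠ 1 →
      IsConj (S.φ (inv2 i)) (S.φ x) → x ^ 2 = 1 ∧ cls x = some i := by
    intro x i hi2 hi1 hx
    obtain ⟨g, hg⟩ := isConj_iff.mp hx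
    have hx2 : x ^ 2 = 1 := S.inj (by
      rw [map_pow, ← hg, conj_pow, ← map_pow, hi2, map_one, mul_one, mul_inv_cancel])
    have hx1 : x ≠ 1 := by
      rintro rfl
      rw [map_one, conj_eq_one_iff] at hg
      exact hi1 (S.inj (by rw [hg, map_one]))
    obtain ⟨j, hj, c, hc⟩ := conj_inv2 x hx2 hx1
    refine ⟨hx2, ?_⟩
    rw [hj, inv2_fusion C (hx.trans (MonoidHom.map_isConj S.φ (isConj_iff.mpr ⟨c, hc⟩)).symm)]
  have hempty : IsEmpty {x : Mo // IsConj (S.φ (inv2 k)) (S.φ x) ∧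
      IsConj (S.φ (inv2 m)) (S.φ (x⁻¹ * z))} := by
    refine ⟨fun x => ?_⟩
    obtain ⟨a2, ac⟩ := hcls hk2 hk1 x.2.1
    obtain ⟨b2, bc⟩ := hcls hm2 hm1 x.2.2
    exact h x.1 ⟨a2, b2, ac, bc⟩
  rw [Nat.card_eq_zero.mpr (Or.inl hempty), Nat.cast_zero, mul_zero, mul_eq_zero] at hc
  exact hc.resolve_left natCard_ne_zero

section Equations

variable (C : Cols S state)

/-- The vector of an involution. -/
noncomputable abbrev iv (k : Fin 3) : Fin 15 → ℂ := C.vals (S.φ (inv2 k))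

theorem wsum_one_zero (i k m : Fin 3) (h : k ≠ m ∨ k = i) :
    wsum (iv C k) (iv C m) (C.vals 1) (vOne i) = 0 := by
  rw [← C.sum_val (isVal_one i) (vOne i) (C.val_one i)]
  exact count_zero C (pow4_ne i).1 (noPair_one i k m h)

theorem wsum_two_zero (i k m : Fin 3) (h : k ≠ m ∨ k ≠ i) :
    wsum (iv C k) (iv C m) (C.vals 1) (vTwo i) = 0 := by
  rw [← C.sum_val (isVal_two i) (vTwo i) (C.val_two i)]
  exact count_zero C (pow4_ne i).2.1 (noPair_two i k m h)

theorem wsum_all_zero (k m : Fin 3) : wsum (iv C k) (iv C m) (C.vals 1) vAll = 0 := by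
  rw [← C.sum_all, count_zero C (pow4_ne 0).2.2.1 (noPair_all k m).1,
    count_zero C (pow4_ne 0).2.2.2 (noPair_all k m).2, add_zero]

theorem rel_iv (k : Fin 3) : Rel (iv C k) :=
  C.rel _ (by rw [← map_pow, (inv2_basic k).2.2.1, map_one])

theorem rel_one : Rel (C.vals 1) := C.rel _ (one_pow 4)

theorem iv_shape (k i j : Fin 3) (hki : k ≠ i) (hkj : k ≠ j) (hij : i ≠ j) :
    ∃ c : ℂ, c ≠ 0 ∧ iv C k (lam k) = (1 - c) * C.vals 1 (lam k) + c ∧
      iv C k (lam i) = (1 - c) * C.vals 1 (lam i) - c ∧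
      iv C k (lam j) = (1 - c) * C.vals 1 (lam j) - c ∧ iv C k 12 = (1 - c) * C.vals 1 12 := by
  have hP : ∀ i j : Fin 3, k ≠ i → k ≠ j → i ≠ j → exP (iv C k) (iv C k) (C.vals 1) i = 0 :=
    fun i j hki hkj hij => exP_eq_zero (rel_iv C k) (rel_iv C k) (rel_one C) k i j hki hkj hij
      (wsum_one_zero C k k k (Or.inr rfl)) (wsum_two_zero C i k k (Or.inr hki))
      (wsum_two_zero C j k k (Or.inr hkj)) (wsum_all_zero C k k)
  obtain ⟨c, h⟩ := shape (rel_iv C k) (rel_one C) C.deg_ne k i j hki hkj hij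
    (hP i j hki hkj hij) (hP j i hkj hki hij.symm)
  refine ⟨c, ?_, h⟩
  rintro rfl
  obtain ⟨m, n, hm, hn⟩ := C.congr k (lam i)
  rw [(vOne_lam k i).1] at hm
  rw [(vOne_lam k i).2, if_neg hki] at hn
  have e := h.2.1
  rw [sub_zero, sub_zero, one_mul] at e
  have : ((3 * m - 3 * n : ℤ) : ℂ) = ((4 : ℤ) : ℂ) := by
    push_cast at hm hn ⊢
    linear_combination (-1 : ℂ) * e - hm + hn
  have := Int.cast_inj.mp this
  omega

theorem degree_eq (k m n : Fin 3) (hkm : k ≠ m) (hkn : k ≠ n) (hmn : m ≠ n) :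
    1 + (C.vals 1 (lam n))⁻¹ = (C.vals 1 (lam k))⁻¹ + (C.vals 1 (lam m))⁻¹ := by
  obtain ⟨c, hc, ak, am, an, a12⟩ := iv_shape C k m n hkm hkn hmn
  obtain ⟨c', hc', bm, bk, bn, b12⟩ := iv_shape C m k n hkm.symm hmn hkn
  exact degree_relation (rel_iv C k) (rel_iv C m) (rel_one C) C.deg_ne k m n hkm hkn hmn hc hc'
    ak am an a12 bk bm bn b12
    (exA_eq_zero (rel_iv C k) (rel_iv C m) (rel_one C)
      (fun i => wsum_one_zero C i k m (Or.inl hkm))
      (fun i => wsum_two_zero C i k m (Or.inl hkm)) (wsum_all_zero C k m))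

theorem lam_degree (k : Fin 3) : C.vals 1 (lam k) = 1 := by
  obtain ⟨a, b, c⟩ := degree_one (degree_eq C 1 2 0 (by decide) (by decide) (by decide))
    (degree_eq C 0 2 1 (by decide) (by decide) (by decide))
    (degree_eq C 0 1 2 (by decide) (by decide) (by decide))
  fin_cases k
  exacts [a, b, c]

end Equations

theorem gens : ∀ k : Mo, ∃ a b c : Fin 3, ∃ e : Option (Fin 3),
    k = tOne 0 ^ (a : ℕ) * tOne 1 ^ (b : ℕ) * tOne 2 ^ (c : ℕ) * e.elim 1 six ∧
      (e = none → k ^ 3 = 1) := by decide +kernel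

theorem six_sep : ∀ i : Fin 3, ∃ k : Fin 2, vSix i (lam k.castSucc) = -1 := by decide +kernel

omit [Fintype G] in
/-- With trivial automizer the group is its own translations. -/
theorem range_eq_top_of_trans27 [Finite G] {K : Type} [Group K] [Fintype K] (S : Setting K G)
    (hK : ∀ x : K, x ^ 3 = 1) (h27 : Nat.card K = 27) : S.φ.range = ⊤ := by
  haveI : Fact (Nat.Prime 3) := ⟨Nat.prime_three⟩
  set P := S.sylowT
  have hPc : ∀ a ∈ (P : Subgroup G), ∀ b ∈ (P : Subgroup G), a * b = b * a := S.tiData.comm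
  have hcen : Subgroup.normalizer ((P : Subgroup G) : Set G) ≤
      Subgroup.centralizer ((P : Subgroup G) : Set G) := by
    intro g hg
    obtain ⟨k, rfl⟩ := S.norm g fun x hx => by
      have := (Subgroup.mem_normalizer_iff.mp hg (S.φ x)).mp ⟨x, hx, rfl⟩
      obtain ⟨y, hy, e⟩ := S.mem_timg.mp this
      exact ⟨y, hy, e.symm⟩
    exact Subgroup.mem_centralizer_iff.mpr fun a ha => hPc a ha _ ⟨k, hK k, rfl⟩
  have hcompl := MonoidHom.ker_transferSylow_isComplement' P hcen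
  set W := (MonoidHom.transferSylow P hcen).ker with hW
  have hcW : ¬ 3 ∣ Nat.card W := MonoidHom.not_dvd_card_ker_transferSylow P hcen
  have hcT : Nat.card (P : Subgroup G) = 27 := by
    show Nat.card (S.sub3.map S.φ : Subgroup G) = 27
    rw [Subgroup.card_map_of_injective S.inj, show S.sub3 = ⊤ from eq_top_iff.mpr fun x _ => hK x,
      Subgroup.card_top, h27]
  have hnc : ¬ IsCyclic (P : Subgroup G) := by
    intro hc
    obtain ⟨g, hg⟩ := hc.exists_ofOrder_eq_natCard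
    rw [hcT] at hg
    have h3 : g ^ 3 = 1 := by
      obtain ⟨x, hx, e⟩ := S.mem_timg.mp g.2
      apply Subtype.ext
      rw [SubmonoidClass.coe_pow, ← e, ← map_pow, hx, map_one, OneMemClass.coe_one]
    have := orderOf_dvd_of_pow_eq_one h3
    rw [hg] at this
    norm_num at this
  have hbot : W ≤ ⊥ := by
    refine CfsgLib.Coprime.le_of_centralizers ⟨⟨fun a b => Subtype.ext (hPc a a.2 b b.2)⟩⟩ hnc
      (fun g _ => by
        rw [Subgroup.normalizer_eq_top]
        trivial) ?_ ?_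
    · rw [hcT, show (27 : ℕ) = 3 ^ 3 from rfl]
      exact ((Nat.prime_three.coprime_iff_not_dvd).mpr hcW).pow_left 3
    · rintro a ⟨x, hx, rfl⟩ ha g ⟨hgW, hgC⟩
      have hgT : g ∈ (P : Subgroup G) := by
        obtain ⟨k, hk⟩ := S.cent x hx (fun e => ha (by rw [e, map_one])) g
          (Subgroup.mem_centralizer_singleton_iff.mp hgC)
        exact ⟨k, hK k, hk⟩
      have := hcompl.disjoint
      rw [Subgroup.disjoint_def] at this
      simpa using this hgW hgT
  have hsup := hcompl.sup_eq_top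
  rw [le_bot_iff.mp hbot, bot_sup_eq] at hsup
  exact eq_top_iff.mpr (hsup ▸ S.timg_le_range)

omit [Fintype G] in
/-- A normalizer `3^3 : 2^2` of a TI Sylow 3-subgroup is the whole group. -/
theorem range_eq_top [Finite G] (S : Setting Mo G) : S.φ.range = ⊤ := by
  classical
  haveI := Fintype.ofFinite G
  obtain ⟨C⟩ := exists_cols S
  have hlin : ∀ k : Fin 3, ∃ l : G →* ℂˣ, ∀ g, (l g : ℂ) = C.vals g (lam k) := by
    intro k
    have h := lam_degree C k
    rw [Cols.vals, sc_one] at h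
    obtain ⟨hs, hd⟩ := C.D.linear_of_ydeg (C.mem (lam k)) (by exact_mod_cast h)
    obtain ⟨l, hl⟩ := exists_linChar_eq (C.q (lam k)).1 hd
    exact ⟨l, fun g => by rw [Cols.vals, sc, hs, Int.cast_one, one_mul, ← hl]; simp⟩
  choose l hl using hlin
  set M : Subgroup G := (l 0).ker ⊓ (l 1).ker with hMdef
  haveI hMn : M.Normal := inferInstance
  have hmem : ∀ g, g ∈ M ↔ ∀ k : Fin 2, l k.castSucc g = 1 := by
    intro g
    rw [hMdef, Subgroup.mem_inf, MonoidHom.mem_ker, MonoidHom.mem_ker, Fin.forall_fin_two]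
    rfl
  have htM : ∀ i : Fin 3, S.φ (tOne i) ∈ M := fun i => (hmem _).mpr fun k => by
    apply Units.ext
    rw [hl, C.val_one, (vOne_lam i _).1, Int.cast_one, Units.val_one]
  have hsix : ∀ i : Fin 3, S.φ (six i) ∉ M := by
    intro i hi
    obtain ⟨k, hk⟩ := six_sep i
    have := congrArg Units.val ((hmem _).mp hi k)
    rw [hl, C.val_six, hk, Units.val_one] at this
    norm_num at this
  have hT : ∀ x : Mo, x ^ 3 = 1 → S.φ x ∈ M := by
    intro x hx
    obtain ⟨a, b, c, e, rfl, -⟩ := gens x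
    cases e with
    | none =>
      simp only [Option.elim_none, mul_one, map_mul, map_pow]
      exact mul_mem (mul_mem (pow_mem (htM 0) _) (pow_mem (htM 1) _)) (pow_mem (htM 2) _)
    | some i =>
      exfalso
      revert a b c i
      decide +kernel
  have hM : ∀ k : Mo, S.φ k ∈ M ↔ k ∈ S.sub3.subtype.range := by
    intro k
    rw [Subgroup.range_subtype]
    refine ⟨fun hk => ?_, hT k⟩
    obtain ⟨a, b, c, e, he, he0⟩ := gens k
    cases e with
    | none => exact he0 rfl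
    | some i =>
      exfalso
      refine hsix i ?_
      have htr : S.φ (tOne 0 ^ (a : ℕ) * tOne 1 ^ (b : ℕ) * tOne 2 ^ (c : ℕ)) ∈ M := by
        simp only [map_mul, map_pow]
        exact mul_mem (mul_mem (pow_mem (htM 0) _) (pow_mem (htM 1) _)) (pow_mem (htM 2) _)
      rw [he, Option.elim_some, map_mul] at hk
      exact (mul_mem_cancel_left htr).mp hk
  have h3 : ∀ x : Mo, x ^ 3 = 1 → x ∈ S.sub3.subtype.range := fun x hx => ⟨⟨x, hx⟩, rfl⟩
  haveI : Fintype S.sub3 := Fintype.ofFinite _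
  have h27 : Nat.card S.sub3 = 27 := by
    rw [← Mo.card_cube, ← Fintype.card_subtype, ← Nat.card_eq_fintype_card]
    rfl
  have htop := range_eq_top_of_trans27 (S.restrict M S.sub3 S.sub3.subtype Subtype.val_injective h3 hM)
    (fun x => Subtype.ext x.2) h27
  exact S.range_eq_top_of_normal M hT (S.restrict_range_le M S.sub3 S.sub3.subtype
    Subtype.val_injective h3 hM htop)

end CfsgLib.TIThree.Cube
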