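import Cfsg.Agent.TIThree.Setting
import Cfsg.Agent.TIThree.Model

/-!
# The group `3^3 : 2^2` with the three nontrivial characters of the four-group
-/

set_option autoImplicit false

namespace CfsgLib.TIThree.Cube

/-- Elements of `3^3 : 2^2`: translations and two signs; the third sign is their product. -/
structure Mo where
  /-- first coordinate -/
  a : Fin 3
  /-- second coordinate -/
  b : Fin 3
  /-- third coordinate -/
  c : Fin 3
  /-- first sign -/
  p : Bool
  /-- second sign -/
  q : Bool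
deriving DecidableEq

namespace Mo

/-- Coordinates as a product. -/
def equivProd : Mo ≃ Fin 3 × Fin 3 × Fin 3 × Bool × Bool where
  toFun x := (x.a, x.b, x.c, x.p, x.q)
  invFun x := ⟨x.1, x.2.1, x.2.2.1, x.2.2.2.1, x.2.2.2.2⟩
  left_inv _ := rfl
  right_inv _ := rfl

instance : Fintype Mo := Fintype.ofEquiv _ equivProd.symm

instance : Mul Mo :=
  ⟨fun x y => ⟨x.a + El.sg x.p y.a, x.b + El.sg x.q y.b, x.c + El.sg (xor x.p x.q) y.c,
    xor x.p y.p, xor x.q y.q⟩⟩

instance : One Mo := ⟨⟨0, 0, 0, false, false⟩⟩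

instance : Inv Mo :=
  ⟨fun x => ⟨El.sg x.p (-x.a), El.sg x.q (-x.b), El.sg (xor x.p x.q) (-x.c), x.p, x.q⟩⟩

theorem coord_assoc : ∀ a b c : Fin 3, ∀ p q : Bool,
    a + El.sg p b + El.sg (xor p q) c = a + El.sg p (b + El.sg q c) := by decide +kernel

theorem xor_xor_xor : ∀ p q r s : Bool, xor (xor p r) (xor q s) = xor (xor p q) (xor r s) := by
  decide +kernel

theorem one_mul' : ∀ x : Mo, 1 * x = x := by decide +kernel

theorem inv_mul' : ∀ x : Mo, x⁻¹ * x = 1 := by decide +kernel

theorem mul_assoc' : ∀ x y z : Mo, x * y * z = x * (y * z) := by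
  rintro ⟨a, b, c, p, q⟩ ⟨a', b', c', p', q'⟩ ⟨a'', b'', c'', p'', q''⟩
  show Mo.mk _ _ _ _ _ = Mo.mk _ _ _ _ _
  simp only [Mo.mk.injEq]
  refine ⟨coord_assoc a a' a'' p p', coord_assoc b b' b'' q q', ?_, Bool.xor_assoc .., Bool.xor_assoc ..⟩
  show c + El.sg (xor p q) c' + El.sg (xor (xor p p') (xor q q')) c'' =
    c + El.sg (xor p q) (c' + El.sg (xor p' q') c'')
  rw [xor_xor_xor p q p' q']
  exact coord_assoc c c' c'' _ _

instance : Group Mo := Group.ofLeftAxioms mul_assoc' one_mul' inv_mul'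

theorem pow_twelve : ∀ x : Mo, (x ^ 4) ^ 3 = 1 := by decide +kernel

theorem flags_of_cube : ∀ x : Mo, x ^ 3 = 1 → x.p = false ∧ x.q = false := by decide +kernel

theorem cube_of_flags : ∀ x : Mo, x.p = false → x.q = false → x ^ 3 = 1 := by decide +kernel

theorem card_cube : (Finset.univ.filter fun x : Mo => x ^ 3 = 1).card = 27 := by decide +kernel

theorem sg_false (x : Fin 3) : El.sg false x = x := rfl

theorem comm_cube (x y : Mo) (hx : x ^ 3 = 1) (hy : y ^ 3 = 1) : x * y = y * x := by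
  obtain ⟨a, b, c, p, q⟩ := x
  obtain ⟨a', b', c', p', q'⟩ := y
  obtain ⟨hp, hq⟩ := flags_of_cube _ hx
  obtain ⟨hp', hq'⟩ := flags_of_cube _ hy
  simp only at hp hq hp' hq'
  subst hp hq hp' hq'
  show Mo.mk _ _ _ _ _ = Mo.mk _ _ _ _ _
  simp [sg_false, add_comm]

/-! ## Characters -/

/-- The sign of the `i`th coordinate. -/
def sign (i : Fin 3) (x : Mo) : Bool := ![x.p, x.q, xor x.p x.q] i

/-- The `i`th translation coordinate. -/
def coord (i : Fin 3) (x : Mo) : Fin 3 := ![x.a, x.b, x.c] i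

/-- The action on the `i`th coordinate. -/
def act3 (i : Fin 3) (x : Mo) (v : Fin 3) : Fin 3 := coord i x + El.sg (sign i x) v

/-- The action on two points through the `i`th sign. -/
def act2 (i : Fin 3) (x : Mo) (v : Bool) : Bool := xor v (sign i x)

theorem sign_mul : ∀ i : Fin 3, ∀ x y : Mo, sign i (x * y) = xor (sign i x) (sign i y) := by
  intro i x y
  fin_cases i
  · rfl
  · rfl
  · exact xor_xor_xor x.p x.q y.p y.q

theorem coord_mul : ∀ i : Fin 3, ∀ x y : Mo,
    coord i (x * y) = coord i x + El.sg (sign i x) (coord i y) := by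
  intro i x y
  fin_cases i <;> rfl

theorem act3_one : ∀ i v, act3 i (1 : Mo) v = v := by decide +kernel

theorem act3_mul (i : Fin 3) (x y : Mo) (v : Fin 3) :
    act3 i (x * y) v = act3 i x (act3 i y v) := by
  rw [act3, sign_mul, coord_mul, coord_assoc]
  rfl

theorem act2_one : ∀ i v, act2 i (1 : Mo) v = v := by decide +kernel

theorem act2_mul (i : Fin 3) (x y : Mo) (v : Bool) :
    act2 i (x * y) v = act2 i x (act2 i y v) := by
  rw [act2, sign_mul]
  show xor v _ = xor (xor v (sign i y)) (sign i x)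
  rw [Bool.xor_assoc, Bool.xor_comm (sign i x)]

/-- The degree two character at the `i`th coordinate. -/
def rho (i : Fin 3) (x : Mo) : ℤ := cond (sign i x) 0 (cond (coord i x == 0) 2 (-1))

/-- The linear character of the `i`th sign. -/
def sgn (i : Fin 3) (x : Mo) : ℤ := cond (sign i x) (-1) 1

theorem rho_eq : ∀ i : Fin 3, ∀ x : Mo, rho i x = El.fixCount (act3 i) x - 1 := by decide +kernel

theorem sgn_eq : ∀ i : Fin 3, ∀ x : Mo, sgn i x = El.fixCount (act2 i) x - 1 := by decide +kernel

theorem gen_rho (i : Fin 3) : IsIntGen Mo (rho i) := by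
  rw [show rho i = fun x => El.fixCount (act3 i) x - 1 from funext (rho_eq i)]
  exact (IsIntGen.fixCount (act3 i) (act3_one i) (act3_mul i)).sub IsIntGen.one

theorem gen_sgn (i : Fin 3) : IsIntGen Mo (sgn i) := by
  rw [show sgn i = fun x => El.fixCount (act2 i) x - 1 from funext (sgn_eq i)]
  exact (IsIntGen.fixCount (act2 i) (act2_one i) (act2_mul i)).sub IsIntGen.one

end Mo

end CfsgLib.TIThree.Cube
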