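import Cfsg.Agent.TIThree.Cube.Family
import Cfsg.Agent.TIThree.Cube.Algebra

/-!
# Values of the constituents at regular elements
-/

set_option autoImplicit false

namespace CfsgLib.TIThree.Cube

open scoped ComplexConjugate
open Cfsg CfsgLib.Chars Rows Decomp

universe u

variable {G : Type u} [Group G] [Fintype G] (S : Setting Mo G)

omit [Fintype G] in
/-- Counting conjugators against a class function. -/
theorem sum_trans [Finite G] (χ : IrrCharacter G) (a : Mo) :
    ∑ k : Mo, (χ : G → ℂ) (S.φ k) * (transCount a k : ℂ) =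
      (Nat.card Mo : ℂ) * (χ : G → ℂ) (S.φ a) := by
  haveI := Fintype.ofFinite G
  have : ∀ k : Mo, (χ : G → ℂ) (S.φ k) * (transCount a k : ℂ) =
      ∑ x : Mo, if x * a * x⁻¹ = k then (χ : G → ℂ) (S.φ k) else 0 := by
    intro k
    rw [transCount, ← Finset.sum_filter, Finset.sum_const, nsmul_eq_mul, mul_comm]
  rw [Finset.sum_congr rfl fun k _ => this k, Finset.sum_comm]
  simp [CfsgLib.Chars.isClassFunction_coe χ _ _, Nat.card_eq_fintype_card]

/-- The value at a full translation and its inverse together. -/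
theorem value_all (χ : IrrCharacter G) :
    (χ : G → ℂ) (S.φ tAll) + (χ : G → ℂ) (S.φ tAll⁻¹) =
      ∑ i : Fin AAll.length, (AAll[i] : ℂ) * coef S.φ (vecs.getD (i : ℕ) 0) (χ : G → ℂ) := by
  have hid : ∀ k : Mo, ∑ i : Fin AAll.length, AAll[i] * vecs.getD (i : ℕ) 0 k =
      (transCount tAll k : ℤ) + (transCount tAll⁻¹ k : ℤ) := by
    intro k
    rw [← val_all k, dot_eq_sum AAll (vecs.map fun v => v k) rfl]
    refine Finset.sum_congr rfl fun i _ => ?_
    congr 1
    have hi : (i : ℕ) < vecs.length := i.2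
    simp [List.getD_eq_getElem?_getD, List.getElem?_eq_getElem hi]
  simp only [coef_eq]
  rw [show ∑ i : Fin AAll.length, (AAll[i] : ℂ) *
        ((Nat.card Mo : ℂ)⁻¹ * ∑ k, (χ : G → ℂ) (S.φ k) * (vecs.getD (i : ℕ) 0 k : ℂ)) =
      (Nat.card Mo : ℂ)⁻¹ * ∑ k, (χ : G → ℂ) (S.φ k) *
        ((∑ i : Fin AAll.length, AAll[i] * vecs.getD (i : ℕ) 0 k : ℤ) : ℂ) by
    push_cast
    simp only [Finset.mul_sum]
    rw [Finset.sum_comm]
    exact Finset.sum_congr rfl fun k _ => Finset.sum_congr rfl fun i _ => by ring]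
  simp only [hid]
  push_cast
  simp only [mul_add, Finset.sum_add_distrib, sum_trans S χ]
  rw [inv_mul_cancel_left₀ (Nat.cast_ne_zero.mpr Nat.card_pos.ne'),
    inv_mul_cancel_left₀ (Nat.cast_ne_zero.mpr Nat.card_pos.ne')]

/-- The signed value at a full translation and its inverse together. -/
theorem sc_all {p : IrrCharacter G × ℤ} :
    sc (S.φ tAll) p + sc (S.φ tAll⁻¹) p =
      ((dot AAll (column (S := S) (F := fam) p) : ℤ) : ℂ) := by
  rw [sc, sc, ← mul_add, value_all, Finset.mul_sum,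
    dot_eq_sum AAll _ (by simp [column, Rows.col, fam, vecs, AAll]), Int.cast_sum]
  refine Finset.sum_congr rfl fun i _ => ?_
  have hi : (i : ℕ) < vecs.length := i.2
  have hg : vecs.getD (i : ℕ) 0 = vecs[(i : ℕ)] := by
    simp [List.getD_eq_getElem?_getD, List.getElem?_eq_getElem hi]
  rw [hg, ← coefZ_spec S (fam.gen _ (List.getElem_mem hi))]
  have hc : (column (S := S) (F := fam) p).getD (i : ℕ) 0 = p.2 * coefZ S vecs[(i : ℕ)] p.1 := by
    simp only [column, Rows.col, show fam.vs = vecs from rfl, List.getD_eq_getElem?_getD,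
      List.getElem?_map, List.getElem?_eq_getElem hi, Option.map_some, Option.getD_some]
  rw [hc]
  push_cast
  ring

theorem all_outside {st : List (List ℤ)} (D : Decomp S fam st) {χ : IrrCharacter G}
    (hχ : χ ∉ D.all.map Prod.fst) :
    (χ : G → ℂ) (S.φ tAll) + (χ : G → ℂ) (S.φ tAll⁻¹) = 0 := by
  rw [value_all]
  refine Finset.sum_eq_zero fun i _ => ?_
  have hi : (i : ℕ) < vecs.length := i.2
  have hg : vecs.getD (i : ℕ) 0 = vecs[(i : ℕ)] := by
    simp [List.getD_eq_getElem?_getD, List.getElem?_eq_getElem hi]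
  rw [hg, ← coefZ_spec S (fam.gen _ (List.getElem_mem hi)),
    D.coef_eq_zero hχ (v := vecs[(i : ℕ)]) (List.getElem_mem hi)]
  simp

/-- A choice of the fifteen constituents. -/
structure Cols (st : List (List ℤ)) where
  /-- the decomposition -/
  D : Decomp S fam st
  /-- the constituents -/
  q : Fin 15 → IrrCharacter G × ℤ
  hall : D.all = List.ofFn q
  hcol : ∀ i : Fin 15, column (S := S) (F := fam) (q i) = state.getD (i : ℕ) []

theorem exists_cols : Nonempty (Cols S state) := by
  obtain ⟨st, hst, ⟨D⟩⟩ := exists_decomp S fam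
  rw [show fam.specs = specs from rfl, enum_eq, List.mem_singleton] at hst
  subst hst
  have hlen : D.all.length = 15 := by
    have := congrArg List.length D.map_column
    simpa [state] using this
  refine ⟨⟨D, fun i => D.all[(i : ℕ)]'(by omega), List.ext_getElem (by rw [List.length_ofFn, hlen])
    fun i h₁ h₂ => (List.getElem_ofFn h₂).symm,
    fun i => ?_⟩⟩
  rw [List.getD_eq_getElem?_getD, List.getElem?_eq_getElem (by simp [state]), Option.getD_some]
  have h := List.getElem_map (column (S := S) (F := fam)) (l := D.all) (i := (i : ℕ))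
    (h := by simp [hlen])
  rw [← h]
  simp [D.map_column]

namespace Cols

variable {S} (C : Cols S state)

/-- The signed values of the constituents. -/
noncomputable def vals (g : G) (i : Fin 15) : ℂ := sc g (C.q i)

theorem mem (i : Fin 15) : C.q i ∈ C.D.all := by
  rw [C.hall, List.mem_ofFn]
  exact ⟨i, rfl⟩

theorem sum_eq (f : IrrCharacter G × ℤ → ℂ) :
    (C.D.all.map f).sum = ∑ i : Fin 15, f (C.q i) := by
  rw [C.hall, List.map_ofFn, List.sum_ofFn]
  rfl

theorem row (g : G) (hg : g ^ 4 = 1) (j : ℕ) (hj : j < 10) :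
    ∑ i : Fin 15, (((state.getD (i : ℕ) []).getD j 0 : ℤ) : ℂ) * C.vals g i = 0 := by
  have := C.D.relation hg (i := j) (by simpa [fam, vecs] using hj)
  rw [C.sum_eq] at this
  simp only [C.hcol] at this
  exact this

theorem vals_zero (g : G) : C.vals g 0 = 1 := by
  have : C.q 0 = (oneChar G, (1 : ℤ)) := by
    have h := C.hall
    rw [Decomp.all, List.ofFn_succ] at h
    exact (List.cons.inj h).1.symm
  simp [vals, this, sc]

theorem rel (g : G) (hg : g ^ 4 = 1) : Rel (C.vals g) := by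
  have r0 := C.row g hg 0 (by norm_num)
  have r1 := C.row g hg 1 (by norm_num)
  have r2 := C.row g hg 2 (by norm_num)
  have r3 := C.row g hg 3 (by norm_num)
  have r4 := C.row g hg 4 (by norm_num)
  have r5 := C.row g hg 5 (by norm_num)
  have r6 := C.row g hg 6 (by norm_num)
  have r7 := C.row g hg 7 (by norm_num)
  have r8 := C.row g hg 8 (by norm_num)
  simp [sum_fifteen, state] at r0 r1 r2 r3 r4 r5 r6 r7 r8
  have h0 := C.vals_zero g
  refine ⟨h0, ?_, ?_, ?_, ?_, ?_, ?_, ?_, ?_, ?_⟩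
  · linear_combination -r2 + h0
  · linear_combination r0 + r1
  · linear_combination r0
  · linear_combination r3 - h0
  · linear_combination r4
  · linear_combination r5 - h0
  · linear_combination r6
  · linear_combination r7 - h0
  · linear_combination r8

theorem deg_ne (i : Fin 15) : C.vals 1 i ≠ 0 := by
  rw [vals, sc_one]
  exact Int.cast_ne_zero.mpr (C.D.ydeg_ne_zero (C.mem i))

theorem dot_one : ∀ i : Fin 3, ∀ j : Fin 15,
    dot (AOne i) (state.getD (j : ℕ) []) = vOne i j := by decide +kernel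

theorem dot_two : ∀ i : Fin 3, ∀ j : Fin 15,
    dot (ATwo i) (state.getD (j : ℕ) []) = vTwo i j := by decide +kernel

theorem dot_six : ∀ i : Fin 3, ∀ j : Fin 15,
    dot (ASix i) (state.getD (j : ℕ) []) = vSix i j := by decide +kernel

theorem dot_all : ∀ j : Fin 15, dot AAll (state.getD (j : ℕ) []) = vAll j := by decide +kernel

theorem val_one (i : Fin 3) (j : Fin 15) : C.vals (S.φ (tOne i)) j = (vOne i j : ℂ) := by
  rw [← dot_one, ← C.hcol, ← Decomp.value (isVal_one i), Int.cast_one, one_mul]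
  rfl

theorem val_two (i : Fin 3) (j : Fin 15) : C.vals (S.φ (tTwo i)) j = (vTwo i j : ℂ) := by
  rw [← dot_two, ← C.hcol, ← Decomp.value (isVal_two i), Int.cast_one, one_mul]
  rfl

theorem val_six (i : Fin 3) (j : Fin 15) : C.vals (S.φ (six i)) j = (vSix i j : ℂ) := by
  rw [← dot_six, ← C.hcol, ← Decomp.value (isVal_six i), Int.cast_one, one_mul]
  rfl

theorem sum_val {z : Mo} {A : List ℤ} (hA : IsValuation fam z 1 A) (v : Fin 15 → ℤ)
    (hv : ∀ j, C.vals (S.φ z) j = (v j : ℂ)) (g h : G) :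
    ∑ χ : IrrCharacter G, (χ : G → ℂ) g * (χ : G → ℂ) h * conj ((χ : G → ℂ) (S.φ z)) /
      (χ : G → ℂ) 1 = wsum (C.vals g) (C.vals h) (C.vals 1) v := by
  rw [C.D.triple_sum g h hA, C.sum_eq, wsum]
  refine Finset.sum_congr rfl fun j _ => ?_
  rw [← hv, term]
  show C.vals g j * C.vals h j * C.vals (S.φ z) j / C.vals 1 j = _
  ring

theorem sum_all (g h : G) :
    ∑ χ : IrrCharacter G, (χ : G → ℂ) g * (χ : G → ℂ) h * conj ((χ : G → ℂ) (S.φ tAll)) /
      (χ : G → ℂ) 1 +
    ∑ χ : IrrCharacter G, (χ : G → ℂ) g * (χ : G → ℂ) h * conj ((χ : G → ℂ) (S.φ tAll⁻¹)) /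
      (χ : G → ℂ) 1 = wsum (C.vals g) (C.vals h) (C.vals 1) vAll := by
  rw [← Finset.sum_add_distrib]
  simp only [← add_div, ← mul_add, ← map_add]
  rw [C.D.sum_irr _ (fun χ hχ => by rw [all_outside S C.D hχ]; simp), C.sum_eq, wsum]
  refine Finset.sum_congr rfl fun j _ => ?_
  have e := sc_all S (p := C.q j)
  rw [C.hcol, dot_all] at e
  have hr := C.D.sign_sq (C.mem j)
  have hre : conj (((C.q j).1 : G → ℂ) (S.φ tAll) + ((C.q j).1 : G → ℂ) (S.φ tAll⁻¹)) =
      ((C.q j).2 : ℂ) * (vAll j : ℂ) := by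
    rw [show ((C.q j).1 : G → ℂ) (S.φ tAll) + ((C.q j).1 : G → ℂ) (S.φ tAll⁻¹) =
        ((C.q j).2 : ℂ) * (vAll j : ℂ) by
      rw [← e, sc, sc]
      rcases hr with h | h <;> simp [h] <;> ring]
    simp
  rw [hre]
  simp only [term, vals, sc]
  rcases hr with h | h <;> simp [h] <;> ring

end Cols

end CfsgLib.TIThree.Cube
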